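import Mathlib.CategoryTheory.Abelian.DiagramLemmas.KernelCokernelComp
import Mathlib.Algebra.Homology.ShortComplex.ShortExact

/-!
# The exact sequence of kernels of a composition with an epimorphism
-/

set_option autoImplicit false
universe v u
open CategoryTheory CategoryTheory.Limits

namespace Groth.Agent.Pic13.H116.Abel

variable {C : Type u} [Category.{v} C] [Abelian C] {A B D : C} (p : A ⟶ B) (q : B ⟶ D)

theorem kernel_comp_shortExact [Epi p] :
    (ShortComplex.mk (kernel.map p (p ≫ q) (𝟙 _) q (by simp)) (kernel.map (p ≫ q) q p (𝟙 _) (by simp))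
      (by rw [← cancel_mono (kernel.ι q)]; simp)).ShortExact := by
  let T := kernelCokernelCompSequence.snakeInput p q
  have hz : IsZero T.L₃.X₁ := isZero_cokernel_of_epi p
  have h1 : Epi T.L₀.g := by
    have := T.L₁'_exact
    exact this.epi_f (hz.eq_of_tgt _ _)
  have h2 : Mono T.L₀.f := by
    have : Mono T.L₁.f := inferInstanceAs (Mono (biprod.inl : A ⟶ A ⊞ B))
    infer_instance
  exact { exact := T.L₀_exact, mono_f := h2, epi_g := h1 }

end Groth.Agent.Pic13.H116.Abel
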