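import Groth.Agent.Pic13.H116.IntStep
import Groth.Agent.Pic13.H967.NoSec

/-!
# Bounds for `h^0` of numerically trivial twists on an integral scheme

`bh_pow`: `h^0(a h^p)` is bounded for `a` numerically trivial, each `p : ℤ`.
-/

set_option autoImplicit false
set_option linter.unusedSectionVars false
universe u
open CategoryTheory CategoryTheory.Limits AlgebraicGeometry TopologicalSpace

namespace Groth.Agent.Pic13.H116.BHStep

open Groth.Agent.Grpsch.PicGrp Groth.Agent.Fdesc.LocGen Groth.Agent.Pic13.H945.DegAmple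
open Groth.Agent.Pic13.H116.Tw Groth.Agent.Pic13.H116.Num Groth.Agent.Pic13.H116.SE Groth.Agent.Pic13.H116.Sec
open Groth.Agent.Pic13.H116.IntStep

variable (k : Type u) [Field k] {Z : Scheme.{u}} [Z.Over (Spec (CommRingCat.of k))]
  [IsProper (Z ↘ Spec (CommRingCat.of k))] [IsIntegral Z] {h : Pic Z}

theorem hz_neg (hd : 1 ≤ topologicalKrullDim Z) (hh : CohB1.IsAmple (rep h)) {a : Pic Z} (ha : a ∈ num0 k Z) {p : ℤ}
    (hp : p < 0) : hz k (rep (a * h ^ p)) = 0 := by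
  obtain ⟨m, hm⟩ : ∃ m : ℕ, p = -(m : ℤ) := ⟨p.natAbs, by omega⟩
  have hm0 : 0 < m := by omega
  have hnum : Pic13.IsNumEquivZero k Z (rep a) := (isNumEquivZero_iff_mem k Z (rep_inv a)).2 (by rwa [mk_rep])
  have h1 : Subsingleton (Coh.HH Z (rep (a * h ^ p)) 0) := by
    refine H967.NoSec.subsingleton k Z hd (rep h) hh _ (rep a) (rep_inv _) (rep_inv a) hnum m hm0 ?_
    rw [← mk_eq_iff (isInvertible_tensorMod (rep_inv _) (isInvertible_tensorPow (rep_inv h) m)) (rep_inv a),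
      ← mk_mul_mk (rep_inv _) (isInvertible_tensorPow (rep_inv h) m), mk_rep, mk_tensorPow (rep_inv h), mk_rep, mk_rep, hm,
      mul_assoc, ← zpow_natCast h m, ← zpow_add, neg_add_cancel, zpow_zero, mul_one]
  exact Module.finrank_zero_of_subsingleton

/-- Uniform bounds for `h^0`. -/
theorem bh_pow (hd : 1 ≤ topologicalKrullDim Z)
    (IH : ∀ G : Z.Modules, Coh.IsCoh G → CohB1.support G ≠ Set.univ → GoodC k h G) (hh : CohB1.IsAmple (rep h))
    (p : ℤ) : ∃ B : ℕ, ∀ a ∈ num0 k Z, hz k (rep (a * h ^ p)) ≤ B := by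
  have := Fga.HypSec.isNoetherian k Z
  obtain ⟨q₀, hq⟩ := exists_pos_rep k hh (1 : Pic Z)
  obtain ⟨m, hm1, hm⟩ : ∃ m : ℤ, 1 ≤ m ∧ 0 < hz k (rep (h ^ m)) :=
    ⟨max 1 q₀, le_max_left _ _, by simpa using hq _ (le_max_right 1 q₀)⟩
  obtain ⟨C, hC, hs, hse⟩ := se_of_pos k hm
  have key : ∀ j : ℕ, ∀ p : ℤ, p < j * m → ∃ B : ℕ, ∀ a ∈ num0 k Z, hz k (rep (a * h ^ p)) ≤ B := by
    intro j
    induction j with
    | zero => exact fun p hp => ⟨0, fun a ha => (hz_neg k hd hh ha (by simpa using hp)).le⟩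
    | succ j ih =>
      intro p hp
      obtain ⟨B, hB⟩ := ih (p - m) (by push_cast at hp; linarith)
      obtain ⟨B', hB'⟩ := (IH (tw (h ^ (p - m)) C) (tw_coh _ hC) (by rwa [support_tw])).bh
      refine ⟨B + B', fun a ha => ?_⟩
      have h1 := (hse.unit_cut (a * h ^ (p - m))).hz_mid_le k (rep_coh _) (tw_coh _ hC)
      obtain ⟨e⟩ := tw_mul a (h ^ (p - m)) C
      have e1 : a * h ^ (p - m) * h ^ m = a * h ^ p := by rw [mul_assoc, ← zpow_add, sub_add_cancel]
      rw [hz_iso k e, e1] at h1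
      exact h1.trans (Nat.add_le_add (hB a ha) (hB' a ha))
  refine key (p.toNat + 1) p ?_
  have h1 : p ≤ (p.toNat : ℤ) := Int.self_le_toNat _
  have h2 : ((p.toNat + 1 : ℕ) : ℤ) * 1 ≤ ((p.toNat + 1 : ℕ) : ℤ) * m :=
    mul_le_mul_of_nonneg_left hm1 (Int.natCast_nonneg _)
  push_cast at h2 ⊢
  linarith

end Groth.Agent.Pic13.H116.BHStep
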