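import Groth.Agent.Grpsch.PicGrp
import Mathlib.Topology.KrullDimension

/-!
# The Picard group of an integral scheme of dimension zero
-/

set_option autoImplicit false
universe u
open CategoryTheory CategoryTheory.Limits AlgebraicGeometry TopologicalSpace

namespace Groth.Agent.Pic13.H116.Dim0

open Groth.Agent.Grpsch.PicGrp

theorem subsingleton_of_dim {T : Type*} [TopologicalSpace T] [T0Space T] [IrreducibleSpace T]
    (hd : ¬ 1 ≤ topologicalKrullDim T) : Subsingleton T := by
  have key : ∀ x y : T, y ∈ closure {x} := by
    intro x y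
    by_contra hy
    apply hd
    rw [topologicalKrullDim, Order.one_le_krullDim_iff]
    refine ⟨⟨closure {x}, isIrreducible_singleton.closure, isClosed_closure⟩,
      ⟨Set.univ, (irreducibleSpace_def T).1 inferInstance, isClosed_univ⟩, ?_⟩
    refine lt_of_le_of_ne (fun z _ => trivial) fun h => hy ?_
    have h1 : closure {x} = (Set.univ : Set T) := congrArg (fun C : IrreducibleCloseds T => (C : Set T)) h
    rw [h1]
    trivial
  refine ⟨fun x y => ?_⟩
  exact (specializes_iff_mem_closure.2 (key x y)).antisymm (specializes_iff_mem_closure.2 (key y x)) |>.eq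

theorem pic_eq_one {Z : Scheme.{u}} [IsIntegral Z] (hd : ¬ 1 ≤ topologicalKrullDim Z) (c : Pic Z) : c = 1 := by
  have := subsingleton_of_dim hd
  obtain ⟨x⟩ : Nonempty Z := inferInstance
  refine eq_one_of_local x (fun U hU => ?_) c
  rw [eq_top_iff]
  intro y _
  rwa [Subsingleton.elim y x]

end Groth.Agent.Pic13.H116.Dim0
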