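import Groth.Agent.Pic13.H116.IntStep

/-!
# Uniform vanishing on an integral scheme from the Mumford step

`MumProp k h'`: kernels of epimorphisms `O → D` with `χ(D ⊗ h'^t) = f₀ t` have uniformly vanishing cohomology after
twisting by large powers of `h'`. `van_unit`: if `h^e` has this property (`e ≥ 1`), all `a h^m` (`a` numerically trivial,
`m ≥ m₀`) have nonzero sections and `χ(a h^t) = χ(h^t)`, then `H^i(a h^p) = 0` for `i ≥ 1`, `p ≥ p₀` uniformly in `a`.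
-/

set_option autoImplicit false
set_option linter.unusedSectionVars false
set_option linter.dupNamespace false
universe u
open CategoryTheory CategoryTheory.Limits AlgebraicGeometry TopologicalSpace

namespace Groth.Agent.Pic13.H116.MumUse

open Groth.Agent.Grpsch.PicGrp Groth.Agent.Fdesc.LocGen Groth.Agent.Pic13.H945.DegAmple
open Groth.Agent.Pic13.H116.Tw Groth.Agent.Pic13.H116.Num Groth.Agent.Pic13.H116.SE Groth.Agent.Pic13.H116.Sec
open Groth.Agent.Pic13.H116.IntStep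

theorem SE.exists_epi {X : Scheme.{u}} {A B C : X.Modules} (h : SE A B C) :
    ∃ (C' : X.Modules) (φ : B ⟶ C'), Epi φ ∧ Nonempty (C' ≅ C) ∧ Nonempty (kernel φ ≅ A) := by
  obtain ⟨S, hS, ⟨i1⟩, ⟨i2⟩, ⟨i3⟩⟩ := h
  have := hS.epi_g
  have := hS.mono_f
  refine ⟨S.X₃, i2.inv ≫ S.g, inferInstance, ⟨i3⟩, ⟨?_⟩⟩
  exact kernelIsIsoComp i2.inv S.g ≪≫
    (kernelIsKernel S.g).conePointUniqueUpToIso hS.fIsKernel ≪≫ i1

variable (k : Type u) [Field k]

/-- The conclusion of the Mumford step for the class `h'`. -/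
def MumProp {Z : Scheme.{u}} [Z.Over (Spec (CommRingCat.of k))] (h' : Pic Z) : Prop :=
  ∀ f₀ : ℤ → ℤ, ∃ m : ℤ, ∀ (D : Z.Modules) (φ : Coh.structureModule Z ⟶ D), Coh.IsCoh D → Epi φ →
    (∀ t : ℤ, Curv2.euler k Z (tw (h' ^ t) D) = f₀ t) → ∀ t : ℤ, m ≤ t → ∀ q : ℕ, 1 ≤ q →
      Subsingleton (Coh.HH Z (tw (h' ^ t) (kernel φ)) q)

variable {Z : Scheme.{u}} [Z.Over (Spec (CommRingCat.of k))] [IsProper (Z ↘ Spec (CommRingCat.of k))]
  [IsIntegral Z] {h : Pic Z}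

theorem van_unit (e : ℕ) (he : 1 ≤ e) (hM : MumProp k (h ^ e))
    (hs : ∃ m₀ : ℤ, ∀ m : ℤ, m₀ ≤ m → ∀ a ∈ num0 k Z, 0 < hz k (rep (a * h ^ m)))
    (hχ : ∀ a ∈ num0 k Z, ∀ t : ℤ, f k (a * h ^ t) = f k (h ^ t)) :
    ∃ p₀ : ℤ, ∀ a ∈ num0 k Z, ∀ p : ℤ, p₀ ≤ p → ∀ i : ℕ, 1 ≤ i → Subsingleton (Coh.HH Z (rep (a * h ^ p)) i) := by
  have := Fga.HypSec.isNoetherian k Z
  obtain ⟨m₀, hm₀⟩ := hs
  -- one exponent
  have key : ∀ m : ℤ, m₀ ≤ m → ∃ M : ℤ, ∀ a ∈ num0 k Z, ∀ t : ℤ, M ≤ t → ∀ i : ℕ, 1 ≤ i →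
      Subsingleton (Coh.HH Z (rep (a * h ^ (e * t - m))) i) := by
    intro m hm
    obtain ⟨M, hM⟩ := hM fun t => f k (h ^ (e * t)) - f k (h ^ (e * t - m))
    refine ⟨M, fun a ha t ht i hi => ?_⟩
    obtain ⟨C, hC, -, hse⟩ := se_of_pos k (hm₀ m hm a⁻¹ (inv_mem ha))
    have hse' := hse.unit_cut (a * h ^ (-m))
    have e1 : a * h ^ (-m) * (a⁻¹ * h ^ m) = 1 := by
      rw [mul_mul_mul_comm, mul_inv_cancel, ← zpow_add, neg_add_cancel, zpow_zero, mul_one]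
    rw [e1] at hse'
    have hO : Nonempty (rep (1 : Pic Z) ≅ Coh.structureModule Z) := by
      obtain ⟨i1⟩ := tw_unit (1 : Pic Z)
      obtain ⟨i2⟩ := tw_one (Coh.structureModule Z)
      exact ⟨i1.symm ≪≫ i2⟩
    have hse2 := hse'.congr ⟨Iso.refl _⟩ hO ⟨Iso.refl _⟩
    obtain ⟨D, φ, hφ, ⟨eD⟩, ⟨eK⟩⟩ := SE.exists_epi hse2
    have hD : Coh.IsCoh D := Sga67.CohBasic.isCoh_of_iso eD.symm (tw_coh _ hC)
    have hpow : ∀ s : ℤ, (h ^ e) ^ s = h ^ (e * s) := fun s => by rw [← zpow_natCast h, ← zpow_mul]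
    have hchi : ∀ s : ℤ, Curv2.euler k Z (tw ((h ^ e) ^ s) D) = f k (h ^ (e * s)) - f k (h ^ (e * s - m)) := by
      intro s
      have h1 := (hse2.tw ((h ^ e) ^ s)).chi k (tw_coh _ (rep_coh _))
        (tw_coh _ (Fdesc.StructMod.isCoh_structureModule Z)) (tw_coh _ (tw_coh _ hC))
      obtain ⟨j1⟩ := tw_iso ((h ^ e) ^ s) eD
      rw [chi_iso k j1]
      obtain ⟨j2⟩ := tw_unit ((h ^ e) ^ s)
      obtain ⟨j3⟩ := tw_rep ((h ^ e) ^ s) (a * h ^ (-m))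
      have h2 : (h ^ e) ^ s * (a * h ^ (-m)) = a * h ^ (e * s - m) := by
        rw [hpow, mul_left_comm, ← zpow_add, sub_eq_add_neg]
      rw [chi_iso k j2, chi_iso k j3, h2] at h1
      have h3 := hχ a ha (e * s - m)
      unfold f at h3 ⊢
      rw [h3, hpow] at h1
      rw [hpow s]
      linarith
    have h4 := hM D φ hD hφ hchi t ht i hi
    obtain ⟨j1⟩ := tw_iso ((h ^ e) ^ t) eK
    obtain ⟨j3⟩ := tw_rep ((h ^ e) ^ t) (a * h ^ (-m))
    have h2 : (h ^ e) ^ t * (a * h ^ (-m)) = a * h ^ (e * t - m) := by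
      rw [hpow, mul_left_comm, ← zpow_add, sub_eq_add_neg]
    rw [h2] at j3
    exact Fga.HShift.subsingleton_of_iso (j1 ≪≫ j3) i h4
  choose! M hM' using key
  -- a common bound over one period
  obtain ⟨B, hB⟩ : ∃ B : ℤ, ∀ r : ℕ, r < e → M (m₀ + r) ≤ B := by
    have hfin : ∀ n : ℕ, ∃ B : ℤ, ∀ r : ℕ, r < n → M (m₀ + r) ≤ B := by
      intro n
      induction n with
      | zero => exact ⟨0, fun r hr => by omega⟩
      | succ n ih =>
        obtain ⟨B, hB⟩ := ih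
        refine ⟨max B (M (m₀ + n)), fun r hr => ?_⟩
        rcases Nat.lt_succ_iff_lt_or_eq.1 hr with h1 | rfl
        · exact (hB r h1).trans (le_max_left _ _)
        · exact le_max_right _ _
    exact hfin e
  refine ⟨e * B - m₀, fun a ha p hp i hi => ?_⟩
  -- p = e t - (m₀ + r)
  have he0 : (0 : ℤ) < e := by exact_mod_cast he
  set r : ℤ := (-(p + m₀)) % e with hr
  have hr0 : 0 ≤ r := Int.emod_nonneg _ he0.ne'
  have hr1 : r < e := Int.emod_lt_of_pos _ he0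
  obtain ⟨t, ht⟩ : ∃ t : ℤ, p = e * t - (m₀ + r) := by
    have h1 := Int.emod_add_mul_ediv (-(p + m₀)) e
    refine ⟨-((-(p + m₀)) / e), ?_⟩
    rw [mul_neg]
    linarith
  have hrn : ((r.toNat : ℕ) : ℤ) = r := Int.toNat_of_nonneg hr0
  have htB : B ≤ t := by
    by_contra hcon
    push Not at hcon
    have h1 : (e : ℤ) * (t + 1) ≤ e * B := mul_le_mul_of_nonneg_left (by omega) he0.le
    rw [ht] at hp
    rw [mul_add, mul_one] at h1
    linarith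
  have h5 := hM' (m₀ + r.toNat) (by omega) a ha t ((hB r.toNat (by omega)).trans htB) i hi
  rw [ht]
  rw [hrn] at h5
  exact h5

end Groth.Agent.Pic13.H116.MumUse
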