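import Groth.Agent.Pic13.H116.BHStep
import Groth.Agent.Pic13.H116.MumUse
import Groth.Agent.Pic13.H116.Dim0
import Groth.Agent.Pic13.H946.CoreDev

/-!
# The integral step of the core theorem, from the Mumford step

* `good_goodC`, comparison of `H946.CoreGood.Good` with `GoodC`;
* `intStep_of`: `H946.CoreDev.IntStep k` from the Mumford step.
-/

set_option autoImplicit false
set_option linter.unusedSectionVars false
universe u
open CategoryTheory CategoryTheory.Limits AlgebraicGeometry TopologicalSpace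

namespace Groth.Agent.Pic13.H116.Final

open Groth.Agent.Grpsch.PicGrp Groth.Agent.Fdesc.LocGen Groth.Agent.Pic13.H945.DegAmple Groth.Agent.Ega2
open Groth.Agent.Pic13.H116.Tw Groth.Agent.Pic13.H116.Num Groth.Agent.Pic13.H116.SE Groth.Agent.Pic13.H116.Sec
open Groth.Agent.Pic13.H116.IntStep Groth.Agent.Pic13.H116.MumUse Groth.Agent.Pic13.H946

variable (k : Type u) [Field k] {X : Scheme.{u}} [X.Over (Spec (CommRingCat.of k))]
  [IsProper (X ↘ Spec (CommRingCat.of k))]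

omit [IsProper (X ↘ Spec (CommRingCat.of k))] [X.Over (Spec (CommRingCat.of k))] in
/-- `(F ⊗ N) ⊗ H^n` as a twist. -/
theorem iso_tw {H N : X.Modules} (hH : PicF.IsInvertible H) (hN : PicF.IsInvertible N) (F : X.Modules) (n : ℕ) :
    Nonempty (CohB1.tensorMod (CohB1.tensorMod F N) (CohB1.tensorPow H n) ≅ tw (mk N hN * mk H hH ^ (n : ℤ)) F) := by
  obtain ⟨e1⟩ := tw_mul (mk H hH ^ (n : ℤ)) (mk N hN) F
  rw [mul_comm] at e1
  obtain ⟨e2⟩ := tw_mk' hN F
  obtain ⟨e3⟩ := tw_iso (mk H hH ^ (n : ℤ)) e2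
  have h4 : mk H hH ^ (n : ℤ) = mk (CohB1.tensorPow H n) (isInvertible_tensorPow hH n) := by
    rw [mk_tensorPow, zpow_natCast]
  obtain ⟨e4⟩ : Nonempty (tw (mk H hH ^ (n : ℤ)) (CohB1.tensorMod F N) ≅
      CohB1.tensorMod (CohB1.tensorMod F N) (CohB1.tensorPow H n)) := by
    rw [h4]
    exact tw_mk' _ _
  exact ⟨(e1 ≪≫ e3 ≪≫ e4).symm⟩

theorem good_goodC {H : X.Modules} (hH : PicF.IsInvertible H) {F : X.Modules}
    (hg : CoreGood.Good k X H F) : GoodC k (mk H hH) F := by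
  have hnum : ∀ a ∈ num0 k X, Pic13.IsNumEquivZero k X (rep a) := fun a ha =>
    (isNumEquivZero_iff_mem k X (rep_inv a)).2 (by rwa [mk_rep])
  refine ⟨?_, fun a ha => ?_, ?_⟩
  · obtain ⟨p₀, hp₀⟩ := hg.van
    refine ⟨p₀, fun a ha p hp i hi => ?_⟩
    obtain ⟨n, rfl⟩ := Int.eq_ofNat_of_zero_le (le_trans (Int.natCast_nonneg p₀) hp)
    obtain ⟨e⟩ := iso_tw hH (rep_inv a) F n
    rw [mk_rep] at e
    exact Fga.HShift.subsingleton_of_iso e i (hp₀ (rep a) (rep_inv a) (hnum a ha) n (by exact_mod_cast hp) i hi)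
  · rw [← hg.chi (rep a) (rep_inv a) (hnum a ha)]
    exact chi_iso k (Tens.swap _ _)
  · obtain ⟨B, hB⟩ := hg.bh
    refine ⟨B, fun a ha => ?_⟩
    have h2 : hz k (CohB1.tensorMod F (rep a)) ≤ B := hB (rep a) (rep_inv a) (hnum a ha)
    rwa [← hz_iso k (Tens.swap (rep a) F)] at h2

theorem goodC_good {H : X.Modules} (hH : PicF.IsInvertible H) {F : X.Modules}
    (hg : GoodC k (mk H hH) F) : CoreGood.Good k X H F := by
  refine ⟨?_, fun N hN hn => ?_, ?_⟩
  · obtain ⟨p₀, hp₀⟩ := hg.van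
    refine ⟨p₀.toNat, fun N hN hn p hp i hi => ?_⟩
    obtain ⟨e⟩ := iso_tw hH hN F p
    refine Fga.HShift.subsingleton_of_iso e.symm i (hp₀ _ ((isNumEquivZero_iff_mem k X hN).1 hn) p ?_ i hi)
    exact (Int.self_le_toNat _).trans (by exact_mod_cast hp)
  · rw [← hg.chi _ ((isNumEquivZero_iff_mem k X hN).1 hn)]
    obtain ⟨e⟩ := tw_mk' hN F
    exact (chi_iso k e).symm
  · obtain ⟨B, hB⟩ := hg.bh
    refine ⟨B, fun N hN hn => ?_⟩
    obtain ⟨e⟩ := tw_mk' hN F
    have h2 := hB _ ((isNumEquivZero_iff_mem k X hN).1 hn)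
    rw [hz_iso k e] at h2
    exact h2

omit [IsProper (X ↘ Spec (CommRingCat.of k))] [X.Over (Spec (CommRingCat.of k))] in
theorem isAmple_rep {H : X.Modules} (hH : CohB1.IsAmple H) : CohB1.IsAmple (rep (mk H hH.1)) :=
  CohqB.AmpCocycle.isAmple_of_iso (rep_mk hH.1).some.symm hH

/-- `GoodC` for the structure sheaf in dimension zero. -/
theorem goodC_dim0 {Z : Scheme.{u}} [Z.Over (Spec (CommRingCat.of k))] [IsProper (Z ↘ Spec (CommRingCat.of k))]
    [IsIntegral Z] (hd : ¬ 1 ≤ topologicalKrullDim Z) {h : Pic Z} (hh : CohB1.IsAmple (rep h)) :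
    GoodC k h (Coh.structureModule Z) := by
  have hc := Dim0.pic_eq_one hd
  have hO : Coh.IsCoh (Coh.structureModule Z) := by
    have := Fga.HypSec.isNoetherian k Z
    exact Fdesc.StructMod.isCoh_structureModule Z
  refine ⟨?_, fun a _ => ?_, ⟨hz k (tw (1 : Pic Z) (Coh.structureModule Z)), fun a _ => by rw [hc a]⟩⟩
  · obtain ⟨q₀, hq₀⟩ := serre k hh hO
    refine ⟨0, fun a _ p _ i hi => ?_⟩
    rw [hc (a * h ^ p), ← hc (h ^ q₀)]
    exact hq₀ q₀ le_rfl i hi
  · rw [hc a]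
    obtain ⟨e⟩ := tw_one (Coh.structureModule Z)
    exact chi_iso k e

/-- `GoodC` for the structure sheaf in positive dimension. -/
theorem goodC_pos {Z : Scheme.{u}} [Z.Over (Spec (CommRingCat.of k))] [IsProper (Z ↘ Spec (CommRingCat.of k))]
    [IsIntegral Z] (hd : 1 ≤ topologicalKrullDim Z) {h : Pic Z} (hh : CohB1.IsAmple (rep h))
    (IH : ∀ G : Z.Modules, Coh.IsCoh G → CohB1.support G ≠ Set.univ → GoodC k h G)
    (e : ℕ) (he : 1 ≤ e) (hM : MumProp k (h ^ e)) :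
    GoodC k h (Coh.structureModule Z) := by
  have hb : ∀ p : ℕ, ∃ B : ℕ, ∀ a ∈ num0 k Z, hz k (rep (a * h ^ (p : ℤ))) ≤ B := fun p =>
    BHStep.bh_pow k hd IH hh p
  have hiso : ∀ a : Pic Z, Nonempty (tw a (Coh.structureModule Z) ≅ rep a) := tw_unit
  refine ⟨?_, fun a ha => ?_, ?_⟩
  · obtain ⟨p₀, hp₀⟩ := van_unit k e he hM (exists_sections k IH hh hb) (fun a ha t => f_eq k IH hh hb ha t)
    exact ⟨p₀, fun a ha p hp i hi => Fga.HShift.subsingleton_of_iso (hiso _).some.symm i (hp₀ a ha p hp i hi)⟩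
  · have h1 := f_one k IH hh hb ha
    unfold f at h1
    rw [chi_iso k (hiso a).some, h1]
    obtain ⟨e1⟩ := tw_one (Coh.structureModule Z)
    exact chi_iso k ((hiso 1).some.symm ≪≫ e1)
  · obtain ⟨B, hB⟩ := hb 0
    refine ⟨B, fun a ha => ?_⟩
    have := hB a ha
    rwa [Nat.cast_zero, zpow_zero, mul_one, ← hz_iso k (hiso a).some] at this

/-- The Mumford step for all ample classes. -/
def MumStep : Prop :=
  ∀ (Z : Scheme.{u}) [Z.Over (Spec (CommRingCat.of k))] [IsProper (Z ↘ Spec (CommRingCat.of k))] [IsIntegral Z]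
    (H : Z.Modules) (hH : CohB1.IsAmple H), ∃ e : ℕ, 1 ≤ e ∧ MumProp k (mk H hH.1 ^ e)

/-- **The integral step.** -/
theorem intStep_of (hM : MumStep k) : CoreDev.IntStep k := by
  intro Z _ _ _ H hH hgood
  refine goodC_good k hH.1 ?_
  have IH : ∀ G : Z.Modules, Coh.IsCoh G → CohB1.support G ≠ Set.univ → GoodC k (mk H hH.1) G :=
    fun G hG hs => good_goodC k hH.1 (hgood G hG hs)
  by_cases hd : 1 ≤ topologicalKrullDim Z
  · obtain ⟨e, he, hMe⟩ := hM Z H hH
    exact goodC_pos k hd (isAmple_rep hH) IH e he hMe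
  · exact goodC_dim0 k hd (isAmple_rep hH)

end Groth.Agent.Pic13.H116.Final
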