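import Groth.Agent.Pic13.H116.Sec
import Groth.Agent.Pic13.H945.DegAmple

/-!
# The integral step: Euler characteristics and vanishing in degrees `≥ 2` for numerically trivial classes

`Z` integral and proper over a field `k`, `h` an ample class. Hypothesis `IH`: all coherent modules with support
`≠ Z` have the three properties `GoodC`. With `f c = χ(c)`:
* `delta`: `f (a h^p) - f (h^p) = f a - f 1` for numerically trivial `a` and all `p : ℤ`; `add`: additivity;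
* `van2`: `H^i(a h^p) = 0`, `i ≥ 2`, `p ≥ p₀` uniformly in `a`;
* `f_eq`: `f (a h^t) = f (h^t)` if `h^0(a h^p)` is bounded for each `p ≥ 0`;
* `exists_sections`: `h^0(a h^m) > 0` for `m ≥ m₀` uniformly in `a`.
-/

set_option autoImplicit false
set_option linter.unusedSectionVars false
universe u
open CategoryTheory CategoryTheory.Limits AlgebraicGeometry TopologicalSpace

namespace Groth.Agent.Pic13.H116.IntStep

open Groth.Agent.Grpsch.PicGrp Groth.Agent.Fdesc.LocGen Groth.Agent.Pic13.H945.DegAmple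
open Groth.Agent.Pic13.H116.Tw Groth.Agent.Pic13.H116.Num Groth.Agent.Pic13.H116.SE Groth.Agent.Pic13.H116.Sec

variable (k : Type u) [Field k]

/-- Uniform vanishing, invariance of the Euler characteristic and boundedness of `h^0` for twists of `F` by numerically
trivial classes. -/
structure GoodC {X : Scheme.{u}} [X.Over (Spec (CommRingCat.of k))] [IsProper (X ↘ Spec (CommRingCat.of k))]
    (h : Pic X) (F : X.Modules) : Prop where
  van : ∃ p₀ : ℤ, ∀ a ∈ num0 k X, ∀ p : ℤ, p₀ ≤ p → ∀ i : ℕ, 1 ≤ i → Subsingleton (Coh.HH X (tw (a * h ^ p) F) i)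
  chi : ∀ a ∈ num0 k X, Curv2.euler k X (tw a F) = Curv2.euler k X F
  bh : ∃ B : ℕ, ∀ a ∈ num0 k X, hz k (tw a F) ≤ B

variable {Z : Scheme.{u}} [Z.Over (Spec (CommRingCat.of k))] [IsProper (Z ↘ Spec (CommRingCat.of k))]

/-- `χ` of a class. -/
noncomputable def f (c : Pic Z) : ℤ := Curv2.euler k Z (rep c)

variable [IsIntegral Z] {h : Pic Z}

section

variable (IH : ∀ G : Z.Modules, Coh.IsCoh G → CohB1.support G ≠ Set.univ → GoodC k h G)

include IH

theorem chi_tw {C : Z.Modules} (hC : Coh.IsCoh C) (hs : CohB1.support C ≠ Set.univ) {a : Pic Z}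
    (ha : a ∈ num0 k Z) (b : Pic Z) : Curv2.euler k Z (tw (a * b) C) = Curv2.euler k Z (tw b C) := by
  obtain ⟨e⟩ := tw_mul a b C
  rw [chi_iso k e]
  exact (IH (tw b C) (tw_coh b hC) (by rwa [support_tw])).chi a ha

theorem cut {c : Pic Z} (hc : 0 < hz k (rep c)) {a : Pic Z} (ha : a ∈ num0 k Z) (b : Pic Z) :
    f k (a * b * c) - f k (a * b) = f k (b * c) - f k b := by
  have := Fga.HypSec.isNoetherian k Z
  obtain ⟨C, hC, hs, hse⟩ := se_of_pos k hc
  have h1 := (hse.unit_cut (a * b)).chi k (rep_coh _) (rep_coh _) (tw_coh _ hC)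
  have h2 := (hse.unit_cut b).chi k (rep_coh _) (rep_coh _) (tw_coh _ hC)
  have h3 := chi_tw k IH hC hs ha b
  unfold f
  rw [h1, h2, h3]
  ring

variable (hh : CohB1.IsAmple (rep h))

include hh

theorem delta {a : Pic Z} (ha : a ∈ num0 k Z) (p : ℤ) : f k (a * h ^ p) - f k (h ^ p) = f k a - f k (1 : Pic Z) := by
  obtain ⟨q₀, hq⟩ := exists_pos_rep k hh (1 : Pic Z)
  have hq' : ∀ q, q₀ ≤ q → 0 < hz k (rep (h ^ q)) := fun q hq1 => by simpa using hq q hq1
  have h1 : ∀ q, q₀ ≤ q → f k (a * h ^ q) - f k a = f k (h ^ q) - f k (1 : Pic Z) := fun q hq1 => by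
    have := cut k IH (hq' q hq1) ha 1
    simpa using this
  have h2 := cut k IH (hq' (max q₀ (q₀ - p)) (le_max_left _ _)) ha (h ^ p)
  have h3 := h1 (p + max q₀ (q₀ - p)) (by
    have := le_max_right q₀ (q₀ - p)
    omega)
  rw [mul_assoc, ← zpow_add] at h2
  omega

theorem add {a a' : Pic Z} (ha : a ∈ num0 k Z) (ha' : a' ∈ num0 k Z) :
    f k (a' * a) - f k (1 : Pic Z) = (f k a - f k (1 : Pic Z)) + (f k a' - f k (1 : Pic Z)) := by
  obtain ⟨q, hq⟩ := exists_pos_rep k hh a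
  have h1 := cut k IH (hq q le_rfl) ha' (h ^ (-q))
  have h2 := delta k IH hh ha' (-q)
  have e1 : a' * h ^ (-q) * (a * h ^ q) = a' * a := by
    rw [mul_assoc, mul_left_comm (h ^ (-q)), ← zpow_add, neg_add_cancel, zpow_zero, mul_one]
  have e2 : h ^ (-q) * (a * h ^ q) = a := by
    rw [mul_left_comm, ← zpow_add, neg_add_cancel, zpow_zero, mul_one]
  rw [e1, e2] at h1
  omega

/-- Vanishing in degrees `≥ 2`. -/
theorem van2 : ∃ p₀ : ℤ, ∀ a ∈ num0 k Z, ∀ p : ℤ, p₀ ≤ p → ∀ i : ℕ, 2 ≤ i →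
    Subsingleton (Coh.HH Z (rep (a * h ^ p)) i) := by
  have := Fga.HypSec.isNoetherian k Z
  obtain ⟨q₀, hq⟩ := exists_pos_rep k hh (1 : Pic Z)
  obtain ⟨m, hm1, hm⟩ : ∃ m : ℤ, 1 ≤ m ∧ 0 < hz k (rep (h ^ m)) :=
    ⟨max 1 q₀, le_max_left _ _, by simpa using hq _ (le_max_right 1 q₀)⟩
  obtain ⟨C, hC, hs, hse⟩ := se_of_pos k hm
  obtain ⟨p₀, hp₀⟩ := (IH C hC hs).van
  refine ⟨p₀, fun a ha p hp i hi => ?_⟩
  obtain ⟨q₁, hq₁⟩ := serre k hh (rep_coh a)
  have key : ∀ j : ℕ, ∀ p : ℤ, p₀ ≤ p → q₁ ≤ p + j * m → Subsingleton (Coh.HH Z (rep (a * h ^ p)) i) := by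
    intro j
    induction j with
    | zero =>
      intro p _ h2
      obtain ⟨e⟩ := tw_rep (h ^ p) a
      rw [mul_comm a]
      exact Fga.HShift.subsingleton_of_iso e i (hq₁ p (by simpa using h2) i (by omega))
    | succ j ih =>
      intro p h1 h2
      obtain ⟨i', rfl⟩ : ∃ i', i = i' + 1 := ⟨i - 1, by omega⟩
      refine (hse.unit_cut (a * h ^ p)).van₁ i' (hp₀ a ha p h1 i' (by omega)) ?_
      rw [mul_assoc, ← zpow_add]
      exact ih (p + m) (by omega) (by push_cast at h2 ⊢; linarith)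
  refine key (q₁ - p).toNat p hp ?_
  have h1 : q₁ - p ≤ ((q₁ - p).toNat : ℤ) := Int.self_le_toNat _
  have h2 : ((q₁ - p).toNat : ℤ) * 1 ≤ ((q₁ - p).toNat : ℤ) * m :=
    mul_le_mul_of_nonneg_left hm1 (Int.natCast_nonneg _)
  linarith

variable (hb : ∀ p : ℕ, ∃ B : ℕ, ∀ a ∈ num0 k Z, hz k (rep (a * h ^ (p : ℤ))) ≤ B)

include hb

theorem f_one {a : Pic Z} (ha : a ∈ num0 k Z) : f k a = f k (1 : Pic Z) := by
  obtain ⟨p₀, hp₀⟩ := van2 k IH hh
  obtain ⟨B, hB⟩ := hb p₀.toNat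
  have hM : ∀ b ∈ num0 k Z, f k b - f k (1 : Pic Z) ≤ B - f k (h ^ (p₀.toNat : ℤ)) := fun b hb' => by
    have h1 := delta k IH hh hb' (p₀.toNat : ℤ)
    have h2 : f k (b * h ^ (p₀.toNat : ℤ)) ≤ hz k (rep (b * h ^ (p₀.toNat : ℤ))) :=
      chi_le_hz k (hp₀ b hb' _ (Int.self_le_toNat _))
    have h3 : (hz k (rep (b * h ^ (p₀.toNat : ℤ))) : ℤ) ≤ B := by exact_mod_cast hB b hb'
    linarith
  have hpow : ∀ b ∈ num0 k Z, ∀ n : ℕ, f k (b ^ n) - f k (1 : Pic Z) = n * (f k b - f k (1 : Pic Z)) := fun b hb' n => by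
    induction n with
    | zero => simp
    | succ n ih =>
      rw [pow_succ', add k IH hh (pow_mem hb' n) hb', ih]
      push_cast
      ring
  have hle : ∀ b ∈ num0 k Z, f k b - f k (1 : Pic Z) ≤ 0 := fun b hb' => by
    by_contra hcon
    push Not at hcon
    have h1 := hM _ (pow_mem hb' ((B : ℤ) - f k (h ^ (p₀.toNat : ℤ)) + 1).toNat)
    rw [hpow b hb'] at h1
    have h2 := Int.self_le_toNat ((B : ℤ) - f k (h ^ (p₀.toNat : ℤ)) + 1)
    have h3 : ((((B : ℤ) - f k (h ^ (p₀.toNat : ℤ)) + 1).toNat : ℕ) : ℤ) * 1 ≤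
        ((((B : ℤ) - f k (h ^ (p₀.toNat : ℤ)) + 1).toNat : ℕ) : ℤ) * (f k b - f k (1 : Pic Z)) :=
      mul_le_mul_of_nonneg_left (by linarith) (Int.natCast_nonneg _)
    linarith
  have h1 := hle a ha
  have h2 := hle a⁻¹ (inv_mem ha)
  have h3 := add k IH hh ha (inv_mem ha)
  rw [inv_mul_cancel] at h3
  linarith

theorem f_eq {a : Pic Z} (ha : a ∈ num0 k Z) (t : ℤ) : f k (a * h ^ t) = f k (h ^ t) := by
  have h1 := delta k IH hh ha t
  have h2 := f_one k IH hh hb ha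
  linarith

/-- Uniform existence of sections. -/
theorem exists_sections : ∃ m₀ : ℤ, ∀ m : ℤ, m₀ ≤ m → ∀ a ∈ num0 k Z, 0 < hz k (rep (a * h ^ m)) := by
  have := Fga.HypSec.isNoetherian k Z
  obtain ⟨p₀, hp₀⟩ := van2 k IH hh
  obtain ⟨q₀, hq₀⟩ := exists_pos_rep k hh (1 : Pic Z)
  obtain ⟨q₁, hq₁⟩ := serre k hh (rep_coh (1 : Pic Z))
  refine ⟨max p₀ (max q₀ q₁), fun m hm a ha => ?_⟩
  have hm1 : p₀ ≤ m := (le_max_left _ _).trans hm
  have hm2 : q₀ ≤ m := ((le_max_left _ _).trans (le_max_right _ _)).trans hm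
  have hm3 : q₁ ≤ m := ((le_max_right _ _).trans (le_max_right _ _)).trans hm
  have h1 : 0 < hz k (rep (h ^ m)) := by simpa using hq₀ m hm2
  have h2 : f k (h ^ m) = hz k (rep (h ^ m)) := chi_eq_hz k fun i hi => by
    obtain ⟨e⟩ := tw_rep (h ^ m) (1 : Pic Z)
    rw [mul_one] at e
    exact Fga.HShift.subsingleton_of_iso e i (hq₁ m hm3 i hi)
  have h3 : f k (a * h ^ m) ≤ hz k (rep (a * h ^ m)) := chi_le_hz k (hp₀ a ha m hm1)
  rw [f_eq k IH hh hb ha m, h2] at h3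
  have h4 : (0 : ℤ) < hz k (rep (h ^ m)) := by exact_mod_cast h1
  exact_mod_cast lt_of_lt_of_le h4 h3

end

end Groth.Agent.Pic13.H116.IntStep
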