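import Groth.Agent.Fga.HodgeSec
import Groth.Agent.Fga.PosZero
import Groth.Agent.Fga.HypSec
import Groth.Agent.CurvesB.HZero
import Groth.Agent.S0051
import Groth.Agent.S2325
import Groth.Agent.Pic13.H116.SE

/-!
# Sections of twists on integral proper schemes, Serre vanishing in terms of classes

* `se_of_pos`: a class `c` with `h^0(c) > 0` on an integral proper scheme gives `0 → O → c → C → 0` with
  `Supp C ≠ Z`.
* `serre`: `H^i(h^q ⊗ F) = 0` for `i ≥ 1`, `q ≥ q₀` (`h` ample, `F` coherent).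
* `exists_pos`: `h^0(h^q ⊗ F) > 0` for `q ≥ q₀` if `F ≠ 0`.
-/

set_option autoImplicit false
universe u
open CategoryTheory CategoryTheory.Limits AlgebraicGeometry TopologicalSpace

namespace Groth.Agent.Pic13.H116.Sec

open Groth.Agent.Grpsch.PicGrp Groth.Agent.Fdesc.LocGen Groth.Agent.Ega2
open Groth.Agent.Pic13.H116.Tw Groth.Agent.Pic13.H116.Num Groth.Agent.Pic13.H116.SE

section General

variable (k : Type u) [Field k] {X : Scheme.{u}} [X.Over (Spec (CommRingCat.of k))]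
  [IsProper (X ↘ Spec (CommRingCat.of k))]

theorem tw_pow_nat (h : Pic X) (F : X.Modules) (n : ℕ) :
    Nonempty (tw (h ^ (n : ℤ)) F ≅ CohB1.tensorMod F (CohB1.tensorPow (rep h) n)) := by
  have e : h ^ (n : ℤ) = mk (CohB1.tensorPow (rep h) n) (isInvertible_tensorPow (rep_inv h) n) := by
    rw [mk_tensorPow (rep_inv h), mk_rep, zpow_natCast]
  rw [e]
  exact tw_mk' _ _

include k in
/-- Serre vanishing. -/
theorem serre {h : Pic X} (hh : CohB1.IsAmple (rep h)) {F : X.Modules} (hF : Coh.IsCoh F) :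
    ∃ q₀ : ℤ, ∀ q : ℤ, q₀ ≤ q → ∀ i : ℕ, 1 ≤ i → Subsingleton (Coh.HH X (tw (h ^ q) F) i) := by
  obtain ⟨n₀, hn⟩ := (Groth.Agent.S0051.result k X (X ↘ Spec (CommRingCat.of k)) (rep h) (rep_inv h)).1 hh F hF
  refine ⟨n₀, fun q hq i hi => ?_⟩
  obtain ⟨n, rfl⟩ := Int.eq_ofNat_of_zero_le (le_trans (Int.natCast_nonneg n₀) hq)
  obtain ⟨e⟩ := tw_pow_nat h F n
  exact Fga.HShift.subsingleton_of_iso e.symm i (hn n (by exact_mod_cast hq) i hi)

theorem isZero_of_hz {F : X.Modules} (hF : Coh.IsCoh F) (hgg : Curv2.IsGloballyGenerated F) (h0 : hz k F = 0) :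
    IsZero F := by
  have := finite_HH k hF 0
  have h1 : Subsingleton (Coh.HH X F 0) := Module.finrank_zero_iff.1 h0
  refine Fga.PosZero.isZero_of_globallyGenerated F hgg fun s => ?_
  obtain ⟨x, rfl⟩ := (CurvesB.HZero.equivAdd F).surjective s
  rw [Subsingleton.elim x 0, map_zero]

/-- Large twists of nonzero coherent modules have sections. -/
theorem exists_pos {h : Pic X} (hh : CohB1.IsAmple (rep h)) {F : X.Modules} (hF : Coh.IsCoh F) (hne : ¬ IsZero F) :
    ∃ q₀ : ℤ, ∀ q : ℤ, q₀ ≤ q → 0 < hz k (tw (h ^ q) F) := by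
  have hsep := Fga.HypSec.isSeparated k X
  have hcs : CompactSpace X := hh.2.1
  obtain ⟨n₀, hn⟩ := Groth.Agent.S2325.result X (rep h) hh F hF
  refine ⟨n₀, fun q hq => ?_⟩
  obtain ⟨n, rfl⟩ := Int.eq_ofNat_of_zero_le (le_trans (Int.natCast_nonneg n₀) hq)
  obtain ⟨e⟩ := tw_pow_nat h F n
  by_contra hcon
  have h0 : hz k (tw (h ^ (n : ℤ)) F) = 0 := by omega
  have h1 : IsZero (CohB1.tensorMod F (CohB1.tensorPow (rep h) n)) :=
    isZero_of_hz k (Sga67.CohBasic.isCoh_of_iso e (tw_coh _ hF)) (hn n (by exact_mod_cast hq))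
      (by rw [← hz_iso k e, h0])
  apply hne
  obtain ⟨e'⟩ := tw_inv_tw (h ^ (n : ℤ)) F
  exact (tw_isZero _ (h1.of_iso e)).of_iso e'.symm

end General

section Integral

variable (k : Type u) [Field k] {Z : Scheme.{u}} [Z.Over (Spec (CommRingCat.of k))]
  [IsProper (Z ↘ Spec (CommRingCat.of k))] [IsIntegral Z]

omit [IsProper (Z ↘ Spec (CommRingCat.of k))] [Z.Over (Spec (CommRingCat.of k))] in
theorem not_isZero_rep (c : Pic Z) : ¬ IsZero (rep c) := by
  intro h0
  obtain ⟨e⟩ := tw_inv_tw c (Coh.structureModule Z)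
  obtain ⟨e1⟩ := tw_unit c
  have h1 : IsZero (Coh.structureModule Z) := (tw_isZero _ (h0.of_iso e1)).of_iso e.symm
  have h2 := Fga.HShift.subsingleton_of_isZero h1 0
  have h3 : Subsingleton Γ(Z, ⊤) := (CurvesB.HZero.equivO Z).symm.toEquiv.subsingleton
  exact not_subsingleton Γ(Z, ⊤) h3

theorem se_of_pos {c : Pic Z} (hc : 0 < hz k (rep c)) :
    ∃ C : Z.Modules, Coh.IsCoh C ∧ CohB1.support C ≠ Set.univ ∧ SE (Coh.structureModule Z) (rep c) C := by
  have := Fga.HypSec.isNoetherian k Z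
  obtain ⟨s, hs⟩ := Fga.HodgeSec.exists_section k hc
  have hO : Coh.IsCoh (Coh.structureModule Z) := Fdesc.StructMod.isCoh_structureModule Z
  have hinv : PicF.IsInvertible (Coh.structureModule Z) := isInvertible_structureModule
  have hNO : Coh.IsCoh (CohB1.tensorMod (rep c) (Coh.structureModule Z)) := tw_coh c hO
  refine ⟨cokernel (Fga.RegSec.mulS s (Coh.structureModule Z)), Sga67.CohBasic.isCoh_cokernel _ hO.1 hNO, ?_, ?_⟩
  · intro h
    exact Fga.HodgeSec.genericPoint_notMem_support (rep_inv c) hO s hs (by rw [h]; trivial)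
  · exact (SE.of (Fga.HodgeSec.seq_shortExact (rep_inv c) hinv s hs)).congr ⟨Iso.refl _⟩
      ⟨Tens.runit _⟩ ⟨Iso.refl _⟩

theorem exists_pos_rep {h : Pic Z} (hh : CohB1.IsAmple (rep h)) (a : Pic Z) :
    ∃ q₀ : ℤ, ∀ q : ℤ, q₀ ≤ q → 0 < hz k (rep (a * h ^ q)) := by
  have := Fga.HypSec.isNoetherian k Z
  obtain ⟨q₀, hq⟩ := exists_pos k hh (rep_coh a) (not_isZero_rep a)
  refine ⟨q₀, fun q hq' => ?_⟩
  obtain ⟨e⟩ := tw_rep (h ^ q) a
  rw [mul_comm a, ← hz_iso k e]
  exact hq q hq'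

end Integral

end Groth.Agent.Pic13.H116.Sec
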